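import Groth.Agent.RegSeq.Noeth
import Mathlib.AlgebraicGeometry.Noetherian

/-!
Quasi-regular immersions and ideal sheaves on locally Noetherian schemes are regular.
-/

set_option autoImplicit false
set_option linter.style.haveILetI false
universe u

open CategoryTheory CategoryTheory.Limits AlgebraicGeometry RingTheory.Sequence

namespace Groth.Agent.RegSeq

variable {X : Scheme.{u}}

theorem exists_affineBasicOpen_weaklyRegular [IsLocallyNoetherian X] (U : X.affineOpens) {x : X} (hx : x ∈ U.1)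
    (rs : List Γ(X, U.1)) (hmem : ∀ r ∈ rs, x ∉ X.basicOpen r) (hq : CAlgX.IsQuasiRegular rs.get) :
    ∃ (W : X.affineOpens) (e : W.1 ≤ U.1), x ∈ W.1 ∧
      IsWeaklyRegular Γ(X, W.1) (rs.map (X.presheaf.map (homOfLE e).op).hom) := by
  haveI : IsNoetherianRing Γ(X, U.1) := IsLocallyNoetherian.component_noetherian U
  set p := (U.2.primeIdealOf ⟨x, hx⟩).asIdeal
  letI : Algebra Γ(X, U.1) (X.presheaf.stalk x) := (X.presheaf.germ U.1 x hx).hom.toAlgebra
  haveI : IsLocalization.AtPrime (X.presheaf.stalk x) p := U.2.isLocalization_stalk ⟨x, hx⟩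
  have key : ∀ r : Γ(X, U.1), r ∈ p ↔ x ∉ X.basicOpen r := fun r => by
    rw [Scheme.mem_basicOpen (hx := hx)]
    show _ ↔ ¬ IsUnit (algebraMap Γ(X, U.1) (X.presheaf.stalk x) r)
    rw [IsLocalization.AtPrime.isUnit_to_map_iff (X.presheaf.stalk x) p]
    exact not_not.symm
  obtain ⟨g, hg, hreg⟩ := exists_isWeaklyRegular_away p rs (fun r hr => (key r).2 (hmem r hr)) hq
  have hxg : x ∈ X.basicOpen g := by by_contra h; exact hg ((key g).2 h)
  refine ⟨X.affineBasicOpen g, X.basicOpen_le g, hxg, ?_⟩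
  letI : Algebra Γ(X, U.1) Γ(X, X.basicOpen g) := (X.presheaf.map (homOfLE (X.basicOpen_le g)).op).hom.toAlgebra
  haveI : IsLocalization.Away g Γ(X, X.basicOpen g) := U.2.isLocalization_basicOpen g
  let e := IsLocalization.algEquiv (Submonoid.powers g) (Localization.Away g) Γ(X, X.basicOpen g)
  have h := (e.toRingEquiv.toAddEquiv.isWeaklyRegular_congr
    (as := rs.map (algebraMap Γ(X, U.1) (Localization.Away g)))
    (bs := rs.map (algebraMap Γ(X, U.1) Γ(X, X.basicOpen g)))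
    (List.forall₂_map_left_iff.2 (List.forall₂_map_right_iff.2 (List.forall₂_same.2 fun r _ y => by
      show e (_ * y) = _ * e y
      rw [map_mul, AlgEquiv.commutes])))).1 hreg
  exact h

theorem regular_of_quasi [IsLocallyNoetherian X] {Y : Scheme.{u}} (j : Y ⟶ X)
    (h : RegImm.IsRegularImmersion .quasi j) : RegImm.IsRegularImmersion .regular j := by
  haveI := h.1
  refine ⟨h.1, fun z => ?_⟩
  obtain ⟨U, hzU, hcl, rs, hq, hker⟩ := h.2 z
  have hmem : ∀ r ∈ rs, j z ∉ X.basicOpen r := fun r hr hc => by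
    have h0 : (j.app U.1).hom r = 0 := by
      rw [← RingHom.mem_ker, hker]; exact Ideal.subset_span hr
    have hc' : z ∈ j ⁻¹ᵁ X.basicOpen r := hc
    rw [Scheme.preimage_basicOpen, show (j.app U.1) r = 0 from h0, Scheme.basicOpen_zero] at hc'
    exact hc'
  obtain ⟨W, e, hzW, hreg⟩ := exists_affineBasicOpen_weaklyRegular U hzU rs hmem hq
  obtain ⟨hcl', hker'⟩ := restrict_baseChange (g := 𝟙 X) (g' := 𝟙 Y) (IsPullback.id_horiz j) U.2 W.2 e
  have he : ((𝟙 X : X ⟶ X).appLE U.1 W.1 e) = X.presheaf.map (homOfLE e).op := by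
    simp [Scheme.Hom.appLE]; exact Category.id_comp _
  rw [hker, Ideal.map_ofList, he] at hker'
  refine ⟨W, hzW, hcl', rs.map (X.presheaf.map (homOfLE e).op).hom, ⟨hreg, ?_⟩, hker'⟩
  rw [smul_eq_mul, Ideal.mul_top, ← hker']
  haveI : Nontrivial Γ(Y, j ⁻¹ᵁ W.1) := by
    haveI : Nonempty (j ⁻¹ᵁ W.1).toScheme := ⟨⟨z, hzW⟩⟩
    infer_instance
  exact (RingHom.ker_ne_top _).symm

theorem regularIdeal_of_quasi [IsLocallyNoetherian X] (I : X.IdealSheafData)
    (h : RegImm.IsRegularIdeal .quasi I) : RegImm.IsRegularIdeal .regular I := by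
  intro x hx
  obtain ⟨U, hxU, rs, hq, hI⟩ := h x hx
  have hmem : ∀ r ∈ rs, x ∉ X.basicOpen r := fun r hr =>
    (Scheme.mem_zeroLocus_iff _ _ _).1 ((Scheme.IdealSheafData.mem_support_iff_of_mem hxU).1 hx) r
      (hI ▸ Ideal.subset_span hr)
  obtain ⟨W, e, hxW, hreg⟩ := exists_affineBasicOpen_weaklyRegular U hxU rs hmem hq
  have hW : I.ideal W = Ideal.ofList (rs.map (X.presheaf.map (homOfLE e).op).hom) := by
    rw [← I.map_ideal (show W ≤ U from e), hI, Ideal.map_ofList]; rfl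
  refine ⟨W, hxW, _, ⟨hreg, ?_⟩, hW⟩
  rw [smul_eq_mul, Ideal.mul_top, ← hW]
  intro htop
  have hx' := (Scheme.mem_zeroLocus_iff _ _ _).1 ((Scheme.IdealSheafData.mem_support_iff_of_mem hxW).1 hx) 1
    (htop ▸ Submodule.mem_top)
  exact hx' ((Scheme.basicOpen_of_isUnit X isUnit_one).symm ▸ hxW)

end Groth.Agent.RegSeq
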