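import Groth.Agent.RegSeq.Basic
import Groth.Prelude.Def_RegImm
import Mathlib.AlgebraicGeometry.Morphisms.Flat
import Mathlib.AlgebraicGeometry.Morphisms.Affine
import Mathlib.AlgebraicGeometry.Morphisms.ClosedImmersion

/-!
Regular immersions: implications between the kinds, isomorphisms, flat base change.
-/

set_option autoImplicit false
set_option linter.style.haveILetI false
universe u

open CategoryTheory CategoryTheory.Limits AlgebraicGeometry RingTheory.Sequence

namespace Groth.Agent.RegSeq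

theorem seq_koszul_of_regular {R : Type u} [CommRing R] {rs : List R}
    (h : RegImm.Kind.regular.Seq R rs) : RegImm.Kind.koszul.Seq R rs :=
  isKoszulRegularSeq_of_isWeaklyRegular (h : IsRegular R rs).toIsWeaklyRegular

theorem seq_h1_of_koszul {R : Type u} [CommRing R] {rs : List R}
    (h : RegImm.Kind.koszul.Seq R rs) : RegImm.Kind.h1.Seq R rs :=
  isH1Regular_of_isKoszulRegularSeq h

theorem seq_quasi_of_h1 {R : Type u} [CommRing R] {rs : List R}
    (h : RegImm.Kind.h1.Seq R rs) : RegImm.Kind.quasi.Seq R rs :=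
  S2103.result _ h

theorem cast_iff {R : Type u} (P : ∀ {c : ℕ}, (Fin c → R) → Prop) {c d : ℕ} (h : c = d) (g : Fin d → R) :
    P (g ∘ Fin.cast h) ↔ P g := by
  subst h; rfl

theorem get_map_iff {R S : Type u} (P : ∀ {c : ℕ}, (Fin c → S) → Prop) (l : List R) (φ : R → S) :
    P (l.map φ).get ↔ P (φ ∘ l.get) := by
  rw [← cast_iff P (List.length_map (f := φ) (as := l)) (φ ∘ l.get)]
  exact iff_of_eq (congrArg P (funext fun i => by simp))

theorem seq_map_flat (k : RegImm.Kind) {R S : Type u} [CommRing R] [CommRing S] [Algebra R S]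
    [Module.Flat R S] {rs : List R} (h : k.Seq R rs)
    (hne : Ideal.ofList (rs.map (algebraMap R S)) ≠ ⊤) : k.Seq S (rs.map (algebraMap R S)) := by
  cases k with
  | regular =>
    exact ⟨(h : IsRegular R rs).toIsWeaklyRegular.of_flat, by
      rw [smul_eq_mul, Ideal.mul_top]; exact hne.symm⟩
  | koszul => exact isKoszulRegularSeq_of_flat h
  | h1 => exact (get_map_iff (@CAlgX.IsH1Regular S _) rs _).2 (isH1Regular_of_flat h)
  | quasi => exact (get_map_iff (@CAlgX.IsQuasiRegular S _) rs _).2 (isQuasiRegular_of_flat h)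

theorem isRegularImmersionAt_mono {k k' : RegImm.Kind}
    (hk : ∀ {R : Type u} [CommRing R] {rs : List R}, k.Seq R rs → k'.Seq R rs)
    {Z X : Scheme.{u}} {i : Z ⟶ X} {z : Z} (h : RegImm.IsRegularImmersionAt k i z) :
    RegImm.IsRegularImmersionAt k' i z := by
  obtain ⟨U, hU, hcl, rs, hrs, hker⟩ := h
  exact ⟨U, hU, hcl, rs, hk hrs, hker⟩

theorem isRegularImmersion_mono {k k' : RegImm.Kind}
    (hk : ∀ {R : Type u} [CommRing R] {rs : List R}, k.Seq R rs → k'.Seq R rs)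
    {Z X : Scheme.{u}} {i : Z ⟶ X} (h : RegImm.IsRegularImmersion k i) :
    RegImm.IsRegularImmersion k' i :=
  ⟨h.1, fun z => isRegularImmersionAt_mono hk (h.2 z)⟩

theorem isRegularImmersion_iso_comp {k : RegImm.Kind} {Z' Z X : Scheme.{u}} (e : Z' ⟶ Z) [IsIso e]
    {i : Z ⟶ X} (h : RegImm.IsRegularImmersion k i) : RegImm.IsRegularImmersion k (e ≫ i) := by
  haveI := h.1
  refine ⟨inferInstance, fun z => ?_⟩
  obtain ⟨U, hU, hcl, rs, hrs, hker⟩ := h.2 (e z)
  refine ⟨U, hU, ?_, rs, hrs, ?_⟩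
  · rw [morphismRestrict_comp]
    exact MorphismProperty.comp_mem _ _ _ inferInstance hcl
  · rw [← hker]
    ext a
    rw [RingHom.mem_ker, RingHom.mem_ker]
    show (e.app (i ⁻¹ᵁ U.1)).hom ((i.app U.1).hom a) = 0 ↔ _
    exact map_eq_zero_iff _ (ConcreteCategory.bijective_of_isIso (e.app (i ⁻¹ᵁ U.1))).1

variable {Z X Z' X' : Scheme.{u}} {i : Z ⟶ X} {g : X' ⟶ X} {i' : Z' ⟶ X'} {g' : Z' ⟶ Z}

/-- The affine chart of a base change of a closed immersion. -/
theorem restrict_baseChange (hsq : IsPullback g' i' i g) {U : X.Opens} (hU : IsAffineOpen U)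
    [IsClosedImmersion (i ∣_ U)] {V : X'.Opens} (hV : IsAffineOpen V) (e : V ≤ g ⁻¹ᵁ U) :
    IsClosedImmersion (i' ∣_ V) ∧
      RingHom.ker (i'.app V).hom = (RingHom.ker (i.app U).hom).map (g.appLE U V e).hom := by
  have hle : i' ⁻¹ᵁ V ≤ g' ⁻¹ᵁ (i ⁻¹ᵁ U) := by
    rw [← Scheme.Hom.comp_preimage, hsq.w, Scheme.Hom.comp_preimage]
    exact i'.preimage_mono e
  have hUY : i' ⁻¹ᵁ V = g' ⁻¹ᵁ (i ⁻¹ᵁ U) ⊓ i' ⁻¹ᵁ V := (inf_eq_right.2 hle).symm
  have hpb := Scheme.Hom.isPullback_resLE hsq e (le_refl (i ⁻¹ᵁ U)) hUY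
  haveI : IsClosedImmersion (i.resLE U (i ⁻¹ᵁ U) le_rfl) := by
    rw [Scheme.Hom.resLE_eq_morphismRestrict]; infer_instance
  have hcl : IsClosedImmersion (i'.resLE V (i' ⁻¹ᵁ V) le_rfl) :=
    MorphismProperty.of_isPullback hpb inferInstance
  refine ⟨by rwa [Scheme.Hom.resLE_eq_morphismRestrict] at hcl, ?_⟩
  haveI : IsAffine U.toScheme := hU
  obtain ⟨hA, hs⟩ := IsClosedImmersion.isAffine_surjective_of_isAffine (i ∣_ U)
  have hs' : Function.Surjective (i.app U).hom := by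
    have e' := arrowResLEAppIso i U (i ⁻¹ᵁ U) le_rfl
    have hs' : RingHom.toMorphismProperty (fun {R S : Type u} [CommRing R] [CommRing S] (f : R →+* S) =>
        Function.Surjective f) (i.resLE U (i ⁻¹ᵁ U) le_rfl).appTop := by
      rw [Scheme.Hom.resLE_eq_morphismRestrict]
      exact hs
    haveI := RingHom.toMorphismProperty_respectsIso_iff.mp RingHom.surjective_respectsIso.{u}
    rw [Scheme.Hom.app_eq_appLE]
    exact (MorphismProperty.arrow_mk_iso_iff _ e').1 hs'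
  have hP := (isIso_pushoutSection_iff hsq e (le_refl (i ⁻¹ᵁ U)) hUY).1
    (isIso_pushoutSection_of_isAffineOpen hsq e (le_refl (i ⁻¹ᵁ U)) hUY hU hV hA)
  set φ := (g.appLE U V e).hom with hφ
  set I := RingHom.ker (i.app U).hom with hI
  let q : Γ(X', V) →+* Γ(X', V) ⧸ I.map φ := Ideal.Quotient.mk _
  have hk : RingHom.ker (i.app U).hom ≤ RingHom.ker (q.comp φ) := fun a ha => by
    rw [RingHom.mem_ker, RingHom.comp_apply]
    exact Ideal.Quotient.eq_zero_iff_mem.2 (Ideal.mem_map_of_mem φ ha)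
  let l := (i.app U).hom.liftOfSurjective hs' ⟨q.comp φ, hk⟩
  have hl : ∀ a, l ((i.app U).hom a) = q (φ a) :=
    fun a => RingHom.liftOfRightInverse_comp_apply (i.app U).hom _ (Function.rightInverse_surjInv hs')
      ⟨q.comp φ, hk⟩ a
  apply le_antisymm
  · intro b hb
    obtain ⟨d, -, hd⟩ := hP.exists_desc (CommRingCat.ofHom l) (CommRingCat.ofHom q) (by
      ext a
      rw [Scheme.Hom.appLE_eq_app]
      exact hl a)
    rw [Scheme.Hom.appLE_eq_app] at hd
    refine Ideal.Quotient.eq_zero_iff_mem.1 ?_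
    have h1 := congr($(hd).hom b)
    simp only [CommRingCat.hom_comp, RingHom.comp_apply, CommRingCat.hom_ofHom] at h1
    rw [RingHom.mem_ker] at hb
    rw [hb, map_zero] at h1
    exact h1.symm
  · rw [Ideal.map_le_iff_le_comap]
    intro a ha
    have h1 := congr($(hP.w).hom a)
    simp only [CommRingCat.hom_comp, RingHom.comp_apply, Scheme.Hom.appLE_eq_app] at h1
    rw [hI, RingHom.mem_ker] at ha
    rw [Ideal.mem_comap, RingHom.mem_ker, ← h1, ha, map_zero]

theorem isRegularImmersion_baseChange {k : RegImm.Kind} [Flat g] (hsq : IsPullback g' i' i g)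
    (h : RegImm.IsRegularImmersion k i) : RegImm.IsRegularImmersion k i' := by
  haveI := h.1
  refine ⟨MorphismProperty.of_isPullback hsq h.1, fun z => ?_⟩
  obtain ⟨U, hU, hcl, rs, hrs, hker⟩ := h.2 (g' z)
  have hz : i' z ∈ g ⁻¹ᵁ U.1 := by
    show g (i' z) ∈ U.1
    rwa [show g (i' z) = i (g' z) from congr($(hsq.w) z).symm]
  obtain ⟨_, ⟨V, hV, rfl⟩, hzV, hVU⟩ :=
    X'.isBasis_affineOpens.exists_subset_of_mem_open hz (g ⁻¹ᵁ U.1).2
  have hVU' : V ≤ g ⁻¹ᵁ U.1 := hVU
  obtain ⟨hcl', hker'⟩ := restrict_baseChange hsq U.2 hV hVU'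
  refine ⟨⟨V, hV⟩, hzV, hcl', rs.map (g.appLE U.1 V hVU').hom, ?_, ?_⟩
  · letI := (g.appLE U.1 V hVU').hom.toAlgebra
    haveI : Module.Flat Γ(X, U.1) Γ(X', V) := g.flat_appLE U.2 hV hVU'
    refine seq_map_flat k hrs (fun htop => ?_)
    have h1 : RingHom.ker (i'.app V).hom = ⊤ := by
      rw [hker', hker, Ideal.map_ofList]; exact htop
    haveI : Nontrivial Γ(Z', i' ⁻¹ᵁ V) := by
      haveI : Nonempty (i' ⁻¹ᵁ V).toScheme := ⟨⟨z, hzV⟩⟩
      infer_instance
    exact RingHom.ker_ne_top _ h1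
  · rw [hker', hker, Ideal.map_ofList]

end Groth.Agent.RegSeq
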