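import Groth.Agent.RegSeq.Basic

/-!
Appending Koszul regular sequences.
-/

set_option autoImplicit false
set_option linter.style.haveILetI false
universe u

open CategoryTheory

namespace Groth.Agent.RegSeq

open KoszulLib

variable {R : Type u} [CommRing R]

/-- The augmentation of a Koszul complex whose tail resolves a quotient. -/
theorem exists_augmentation (f : List R) (hf : Ex f) : ∀ g : List R,
    ∃ E : ∀ i : ℤ, X (g ++ f) i →ₛₗ[Ideal.Quotient.mk (Ideal.ofList f)]
        X (g.map (Ideal.Quotient.mk (Ideal.ofList f))) i,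
      (∀ i, Function.Surjective (E i)) ∧
      (∀ i j : ℤ, i + 1 = j → ∀ x, E j (dL (g ++ f) i j x) =
        dL (g.map (Ideal.Quotient.mk (Ideal.ofList f))) i j (E i x)) ∧
      ∀ i j k : ℤ, i + 1 = j → j + 1 = k → ∀ x, E j x = 0 → dL (g ++ f) j k x = 0 →
        ∃ w, E i w = 0 ∧ dL (g ++ f) i j w = x
  | [] => by
    classical
    set I := Ideal.ofList f
    let S := R ⧸ I
    let E : ∀ i : ℤ, X f i →ₛₗ[Ideal.Quotient.mk I] X ([] : List S) i := fun i =>
      if h : i = 0 then
        { toFun := fun x => h ▸ (nilEquiv (R := S)).symm (Ideal.Quotient.mk I (e0 f (h ▸ x)))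
          map_add' := by subst h; intro x y; simp
          map_smul' := by subst h; intro r x; simp only [map_smul, smul_eq_mul, map_mul]; rw [← smul_eq_mul, map_smul] }
      else 0
    have hE0 : ∀ x, E 0 x = (nilEquiv (R := S)).symm (Ideal.Quotient.mk I (e0 f x)) := fun x => rfl
    have hEne : ∀ i, i ≠ 0 → ∀ x, E i x = 0 := fun i hi x => by
      haveI := subsingleton_nil (R := S) hi
      exact Subsingleton.elim _ _
    refine ⟨E, fun i y => ?_, fun i j hij x => ?_, fun i j k hij hjk x hx hdx => ?_⟩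
    · by_cases hi : i = 0
      · subst hi
        obtain ⟨r, hr⟩ := Ideal.Quotient.mk_surjective (nilEquiv (R := S) y)
        exact ⟨(e0 f).symm r, by rw [hE0, LinearEquiv.apply_symm_apply, hr, LinearEquiv.symm_apply_apply]⟩
      · haveI : Subsingleton (X ([] : List S) i) := subsingleton_nil hi
        exact ⟨0, @Subsingleton.elim (X ([] : List S) i) this _ _⟩
    · by_cases hj : j = 0
      · subst hj
        obtain rfl : i = -1 := by omega
        haveI := subsingleton_nil (R := S) (i := -1) (by omega)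
        show E 0 (dL f (-1) 0 x) = dL ([] : List S) (-1) 0 (E (-1) x)
        rw [Subsingleton.elim (E (-1) x) 0, map_zero, hE0,
          Ideal.Quotient.eq_zero_iff_mem.2 ((range_d_zero f _).2 ⟨x, rfl⟩), map_zero]
      · haveI := subsingleton_nil (R := S) hj
        exact @Subsingleton.elim (X ([] : List S) j) this _ _
    · by_cases hj : j = 0
      · subst hj
        obtain rfl : i = -1 := by omega
        rw [hE0, LinearEquiv.map_eq_zero_iff, Ideal.Quotient.eq_zero_iff_mem] at hx
        obtain ⟨w, hw⟩ := (range_d_zero f _).1 hx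
        exact ⟨w, hEne _ (by omega) _, (e0 f).injective hw⟩
      · obtain ⟨w, hw⟩ := (hf i j k hij hjk hj x).1 hdx
        by_cases hi : i = 0
        · haveI : Subsingleton (X f j) := subsingleton_of_outside f j (Or.inl (by omega))
          exact ⟨0, map_zero _, @Subsingleton.elim (X f j) this _ _⟩
        · exact ⟨w, hEne _ hi _, hw⟩
  | a :: g => by
    obtain ⟨E, hsur, hcomm, hker⟩ := exists_augmentation f hf g
    let gb := g.map (Ideal.Quotient.mk (Ideal.ofList f))
    let E' : ∀ i : ℤ, X (a :: (g ++ f)) i →ₛₗ[Ideal.Quotient.mk (Ideal.ofList f)] X ((Ideal.Quotient.mk (Ideal.ofList f) a) :: gb) i :=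
      fun i =>
        { toFun := fun x => inlL _ gb i (i + 1) rfl (E (i + 1) (fstL a (g ++ f) i (i + 1) rfl x)) +
            inrL _ gb i (E i (sndL a (g ++ f) i x))
          map_add' := fun x y => by simp only [map_add]; abel
          map_smul' := fun r x => by simp only [map_smul, LinearMap.map_smulₛₗ, smul_add] }
    have hfst : ∀ i j (h : i + 1 = j) x, fstL _ gb i j h (E' i x) = E j (fstL a (g ++ f) i j h x) := by
      intro i j h x
      subst h
      show fstL _ _ _ _ _ (inlL _ _ _ _ _ _ + inrL _ _ _ _) = _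
      rw [map_add, fst_inl, fst_inr, add_zero]
    have hsnd : ∀ i x, sndL _ gb i (E' i x) = E i (sndL a (g ++ f) i x) := by
      intro i x
      show sndL _ _ _ (inlL _ _ _ _ _ _ + inrL _ _ _ _) = _
      rw [map_add, snd_inl, snd_inr, zero_add]
    refine ⟨E', fun i y => ?_, fun i j hij x => ?_, fun i j k hij hjk x hx hdx => ?_⟩
    · obtain ⟨p, hp⟩ := hsur (i + 1) (fstL _ gb i (i + 1) rfl y)
      obtain ⟨q, hq⟩ := hsur i (sndL _ gb i y)
      refine ⟨inlL a (g ++ f) i (i + 1) rfl p + inrL a (g ++ f) i q, ext_pair _ gb rfl ?_ ?_⟩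
      · rw [hfst]; simp [map_add, fst_inl, fst_inr, hp]
      · rw [hsnd]; simp [map_add, snd_inl, snd_inr, hq]
    · subst hij
      show E' (i + 1) (dL (a :: (g ++ f)) i (i + 1) x) = dL ((Ideal.Quotient.mk (Ideal.ofList f) a) :: gb) i (i + 1) (E' i x)
      refine ext_pair _ gb (rfl : i + 1 + 1 = i + 1 + 1) ?_ ?_
      · rw [hfst, fst_d a (g ++ f) rfl rfl, fst_d _ gb rfl rfl, hfst, map_neg, hcomm _ _ rfl]
      · rw [hsnd, snd_d a (g ++ f) rfl, snd_d _ gb rfl, hfst, hsnd, map_add, LinearMap.map_smulₛₗ, hcomm _ _ rfl]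
    · change X (a :: (g ++ f)) j at x
      change dL (a :: (g ++ f)) j k x = 0 at hdx
      have ha0 : E k (fstL a (g ++ f) j k hjk x) = 0 := by rw [← hfst, hx, map_zero]
      have hb0 : E j (sndL a (g ++ f) j x) = 0 := by rw [← hsnd, hx, map_zero]
      have ha1 : dL (g ++ f) k (k + 1) (fstL a (g ++ f) j k hjk x) = 0 := by
        rw [← neg_eq_zero, ← fst_d a (g ++ f) hjk rfl, hdx, map_zero]
      obtain ⟨a', ha', hda'⟩ := hker j k (k + 1) hjk rfl _ ha0 ha1
      have hb1 : dL (g ++ f) j k (sndL a (g ++ f) j x + a • a') = 0 := by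
        rw [map_add, map_smul, hda', add_comm, ← snd_d a (g ++ f) hjk, hdx, map_zero]
      obtain ⟨b', hb', hdb'⟩ := hker i j k hij hjk _
        (by rw [map_add, LinearMap.map_smulₛₗ, hb0, ha', smul_zero, add_zero]) hb1
      refine ⟨inlL a (g ++ f) i j hij (-a') + inrL a (g ++ f) i b', ?_, ?_⟩
      · refine ext_pair _ gb hij ?_ ?_
        · rw [hfst, map_zero, map_add, fst_inl, fst_inr, add_zero, map_neg, ha', neg_zero]
        · rw [hsnd, map_zero, map_add, snd_inl, snd_inr, zero_add, hb']
      · show dL (a :: (g ++ f)) i j _ = _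
        refine ext_pair a (g ++ f) hjk ?_ ?_
        · rw [fst_d a (g ++ f) hij hjk, map_add, fst_inl, fst_inr, add_zero, map_neg, neg_neg, hda']
        · rw [snd_d a (g ++ f) hij, map_add (fstL a (g ++ f) i j hij), map_add (sndL a (g ++ f) i),
            fst_inl, fst_inr, snd_inl, snd_inr, add_zero, zero_add, hdb', smul_neg]
          abel

/-- Appending Koszul regular sequences. -/
theorem isKoszulRegularSeq_append {f g : List R} (hf : LCI.IsKoszulRegularSeq R f)
    (hg : LCI.IsKoszulRegularSeq (R ⧸ Ideal.ofList f) (g.map (Ideal.Quotient.mk (Ideal.ofList f)))) :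
    LCI.IsKoszulRegularSeq R (g ++ f) := by
  obtain ⟨E, hsur, hcomm, hker⟩ := exists_augmentation f ((ex_iff f).2 hf) g
  refine (ex_iff _).1 fun i j k hij hjk hj x => ⟨fun hx => ?_, ?_⟩
  · obtain ⟨w, hw⟩ := (((ex_iff _).2 hg) i j k hij hjk hj (E j x)).1
      (by rw [← hcomm j k hjk, hx, map_zero])
    obtain ⟨w', rfl⟩ := hsur i w
    obtain ⟨v, -, hv⟩ := hker i j k hij hjk (x - dL _ i j w')
      (by rw [map_sub, hcomm i j hij, hw, sub_self]) (by rw [map_sub, hx, dL_dL, sub_self])
    exact ⟨w' + v, by rw [map_add, hv, add_sub_cancel]⟩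
  · rintro ⟨w, rfl⟩; exact dL_dL _ i j k w

end Groth.Agent.RegSeq
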