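import Groth.Agent.RegSeq.Imm
import Groth.Agent.RegSeq.Append
import Groth.Agent.PerfMor.Surj

/-!
Composition of Koszul regular immersions.
-/

set_option autoImplicit false
set_option linter.style.haveILetI false
universe u

open CategoryTheory CategoryTheory.Limits AlgebraicGeometry

namespace Groth.Agent.RegSeq

variable {X Y Z : Scheme.{u}}

/-- Restriction of the Koszul data to a smaller affine open. -/
theorem restrict_koszul (i : Y ⟶ X) {U U' : X.Opens} (hU : IsAffineOpen U) (hU' : IsAffineOpen U') (e : U' ≤ U)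
    [IsClosedImmersion (i ∣_ U)] {rs : List Γ(X, U)} (hrs : LCI.IsKoszulRegularSeq Γ(X, U) rs)
    (hker : RingHom.ker (i.app U).hom = Ideal.ofList rs) :
    IsClosedImmersion (i ∣_ U') ∧ ∃ rs' : List Γ(X, U'), rs'.length = rs.length ∧
      LCI.IsKoszulRegularSeq Γ(X, U') rs' ∧ RingHom.ker (i.app U').hom = Ideal.ofList rs' := by
  obtain ⟨hcl, hk⟩ := restrict_baseChange (g := 𝟙 X) (g' := 𝟙 Y) (IsPullback.id_horiz i) hU hU' e
  letI := ((𝟙 X : X ⟶ X).appLE U U' e).hom.toAlgebra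
  haveI : Module.Flat Γ(X, U) Γ(X, U') := Scheme.Hom.flat_appLE (𝟙 X) hU hU' e
  exact ⟨hcl, rs.map (algebraMap Γ(X, U) Γ(X, U')), List.length_map _, isKoszulRegularSeq_of_flat hrs,
    by rw [hk, hker, Ideal.map_ofList]; rfl⟩

theorem exists_comp_data (i : Y ⟶ X) [IsImmersion i] (j : Z ⟶ Y) (z : Z)
    (U : X.affineOpens) (hzU : i (j z) ∈ U.1) [IsClosedImmersion (i ∣_ U.1)]
    (rs : List Γ(X, U.1)) (hrs : LCI.IsKoszulRegularSeq Γ(X, U.1) rs)
    (hker : RingHom.ker (i.app U.1).hom = Ideal.ofList rs)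
    (V : Y.affineOpens) (hzV : j z ∈ V.1) [IsClosedImmersion (j ∣_ V.1)]
    (ss : List Γ(Y, V.1)) (hss : LCI.IsKoszulRegularSeq Γ(Y, V.1) ss)
    (hkerj : RingHom.ker (j.app V.1).hom = Ideal.ofList ss) :
    ∃ U' : X.affineOpens, (j ≫ i) z ∈ U'.1 ∧ IsClosedImmersion ((j ≫ i) ∣_ U'.1) ∧
      ∃ ts : List Γ(X, U'.1), ts.length = ss.length + rs.length ∧ LCI.IsKoszulRegularSeq Γ(X, U'.1) ts ∧
        RingHom.ker ((j ≫ i).app U'.1).hom = Ideal.ofList ts := by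
  obtain ⟨O, hO, hOV⟩ := i.isEmbedding.isInducing.isOpen_iff.1 V.1.2
  have hzO : i (j z) ∈ O := (Set.ext_iff.1 hOV (j z)).2 hzV
  obtain ⟨_, ⟨U', hU', rfl⟩, hzU', hU'le⟩ := X.isBasis_affineOpens.exists_subset_of_mem_open
    (show i (j z) ∈ (U.1 : Set X) ∩ O from ⟨hzU, hzO⟩) (U.1.2.inter hO)
  have hWV : i ⁻¹ᵁ U' ≤ V.1 := fun y hy => (Set.ext_iff.1 hOV y).1 (hU'le hy).2
  obtain ⟨hcl, rs', hlen, hrs', hker'⟩ := restrict_koszul i U.2 hU' (fun x hx => (hU'le hx).1) hrs hker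
  obtain ⟨hW, hsurj⟩ := PerfMor.surjective_app_of_restrict i hU'
  obtain ⟨hclj, ss', hlenj, hss', hkerj'⟩ := restrict_koszul j V.2 hW hWV hss hkerj
  refine ⟨⟨U', hU'⟩, hzU', ?_, ?_⟩
  · rw [morphismRestrict_comp]
    exact MorphismProperty.comp_mem _ _ _ hclj hcl
  obtain ⟨g, hg⟩ : ∃ g : List Γ(X, U'), g.map (i.app U').hom = ss' :=
    (List.map_surjective_iff.2 hsurj) ss'
  refine ⟨g ++ rs', ?_, isKoszulRegularSeq_append hrs' ?_, ?_⟩
  · rw [List.length_append, hlen, ← hlenj, ← hg, List.length_map]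
  · let e : Γ(Y, i ⁻¹ᵁ U') ≃+* Γ(X, U') ⧸ Ideal.ofList rs' :=
      ((Ideal.quotEquivOfEq hker'.symm).trans (RingHom.quotientKerEquivOfSurjective hsurj)).symm
    letI := e.toRingHom.toAlgebra
    haveI : Module.Flat Γ(Y, i ⁻¹ᵁ U') (Γ(X, U') ⧸ Ideal.ofList rs') :=
      RingHom.Flat.of_bijective (f := e.toRingHom) e.bijective
    have h1 := isKoszulRegularSeq_of_flat (S := Γ(X, U') ⧸ Ideal.ofList rs') hss'
    rw [← hg, List.map_map] at h1
    convert h1 using 1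
    refine List.map_congr_left fun a _ => ?_
    show _ = e ((i.app U').hom a)
    rw [eq_comm, ← e.eq_symm_apply]
    rfl
  · have hm : Ideal.map (i.app U').hom (Ideal.ofList g) = Ideal.ofList ss' := by rw [Ideal.map_ofList, hg]
    rw [Ideal.ofList_append, ← hker', sup_comm, sup_comm]
    show RingHom.ker ((j.app (i ⁻¹ᵁ U')).hom.comp (i.app U').hom) = _
    rw [← RingHom.comap_ker, hkerj', ← hm, Ideal.comap_map_of_surjective' _ hsurj]

theorem isRegularImmersion_comp (i : Y ⟶ X) (j : Z ⟶ Y)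
    (hi : RegImm.IsRegularImmersion .koszul i) (hj : RegImm.IsRegularImmersion .koszul j) :
    RegImm.IsRegularImmersion .koszul (j ≫ i) := by
  haveI := hi.1
  haveI := hj.1
  refine ⟨inferInstance, fun z => ?_⟩
  obtain ⟨U, hzU, hclU, rs, hrs, hker⟩ := hi.2 (j z)
  obtain ⟨V, hzV, hclV, ss, hss, hkerj⟩ := hj.2 z
  obtain ⟨U', h1, h2, ts, -, h3, h4⟩ := exists_comp_data i j z U hzU rs hrs hker V hzV ss hss hkerj
  exact ⟨U', h1, h2, ts, h3, h4⟩

theorem isRegularImmersionOfCodim_comp {n m : ℕ} (i : Y ⟶ X) (j : Z ⟶ Y)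
    (hi : RegImm.IsRegularImmersionOfCodim .koszul n i) (hj : RegImm.IsRegularImmersionOfCodim .koszul m j) :
    RegImm.IsRegularImmersionOfCodim .koszul (m + n) (j ≫ i) := by
  haveI := hi.1
  haveI := hj.1
  refine ⟨inferInstance, fun z => ?_⟩
  obtain ⟨U, hzU, hclU, rs, hn, hrs, hker⟩ := hi.2 (j z)
  obtain ⟨V, hzV, hclV, ss, hm, hss, hkerj⟩ := hj.2 z
  obtain ⟨U', h1, h2, ts, hlen, h3, h4⟩ := exists_comp_data i j z U hzU rs hrs hker V hzV ss hss hkerj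
  exact ⟨U', h1, h2, ts, by rw [hlen, hm, hn], h3, h4⟩

end Groth.Agent.RegSeq
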