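import Groth.Agent.KoszulLib.Cone
import Groth.Agent.S2103
import Groth.Prelude.Def_CAlgX
import Groth.Prelude.Def_LCI2
import Mathlib.RingTheory.Flat.EquationalCriterion
import Mathlib.RingTheory.Regular.Flat

/-!
Kinds of regular sequences: weakly regular ⇒ Koszul ⇒ `H₁` ⇒ quasi, and flat base change.
-/

set_option autoImplicit false
universe u

open CategoryTheory TensorProduct RingTheory.Sequence

namespace Groth.Agent.RegSeq

open KoszulLib

variable {R : Type u} [CommRing R]

theorem exists_smul_of_tmul_eq_zero (f : R) (M : Type u) [AddCommGroup M] [Module R M] (y : M)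
    (h : (1 : R ⧸ Ideal.span {f}) ⊗ₜ[R] y = 0) : ∃ e : M, f • e = y := by
  have h2 := congrArg (quotTensorEquivQuotSMul M (Ideal.span {f})) h
  rw [map_zero, show (1 : R ⧸ Ideal.span {f}) = Ideal.Quotient.mk _ 1 from rfl,
    quotTensorEquivQuotSMul_mk_tmul, one_smul, Submodule.Quotient.mk_eq_zero,
    Submodule.ideal_span_singleton_smul, Submodule.mem_smul_pointwise_iff_exists] at h2
  obtain ⟨e, -, he⟩ := h2
  exact ⟨e, he⟩

theorem exists_tmul_eq (f : R) (M : Type u) [AddCommGroup M] [Module R M]
    (z : (R ⧸ Ideal.span {f}) ⊗[R] M) : ∃ x : M, (1 : R ⧸ Ideal.span {f}) ⊗ₜ[R] x = z := by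
  induction z using TensorProduct.induction_on with
  | zero => exact ⟨0, TensorProduct.tmul_zero _ _⟩
  | tmul s x =>
    obtain ⟨r, rfl⟩ := Ideal.Quotient.mk_surjective s
    exact ⟨r • x, by
      rw [← TensorProduct.smul_tmul, Algebra.smul_def, mul_one, Ideal.Quotient.algebraMap_eq]⟩
  | add a b ha hb =>
    obtain ⟨x, rfl⟩ := ha
    obtain ⟨y, rfl⟩ := hb
    exact ⟨x + y, TensorProduct.tmul_add _ _ _⟩

theorem smul_injective_of_free (f : R) (hf : IsSMulRegular R f) (M : Type u) [AddCommGroup M] [Module R M]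
    [Module.Free R M] {x : M} (h : f • x = 0) : x = 0 := by
  let b := Module.Free.chooseBasis R M
  refine b.repr.map_eq_zero_iff.1 (Finsupp.ext fun i => hf ?_)
  have h2 : (b.repr (f • x)) i = 0 := by rw [h, map_zero]; rfl
  rw [map_smul, Finsupp.smul_apply] at h2
  simpa using h2

/-- A weakly regular sequence is Koszul regular. -/
theorem ex_of_isWeaklyRegular_aux : ∀ (n : ℕ) {R : Type u} [CommRing R] (l : List R), l.length = n →
    IsWeaklyRegular R l → Ex l := by
  intro n
  induction n with
  | zero =>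
    intro R _ l hl _
    rw [List.length_eq_zero_iff.1 hl]
    intro i j k _ _ hj x
    haveI := subsingleton_nil (R := R) hj
    exact ⟨fun _ => ⟨0, Subsingleton.elim _ _⟩, fun _ => by rw [Subsingleton.elim x 0, map_zero]⟩
  | succ n ih =>
    intro R _ l hl hreg
    match l, hl with
    | f :: t, hl =>
      obtain ⟨hf, ht⟩ := (isWeaklyRegular_cons_iff R f t).1 hreg
      let e : QuotSMulTop f R ≃ₗ[R] R ⧸ Ideal.span {f} := Submodule.quotEquivOfEq _ _
        (by rw [← Submodule.ideal_span_singleton_smul, smul_eq_mul, Ideal.mul_top])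
      have ht' : IsWeaklyRegular (R ⧸ Ideal.span {f}) (t.map (algebraMap R (R ⧸ Ideal.span {f}))) :=
        (isWeaklyRegular_map_algebraMap_iff _ _ t).2 ((e.isWeaklyRegular_congr t).1 ht)
      have hex := ih (t.map (algebraMap R (R ⧸ Ideal.span {f}))) (by simpa using hl) ht'
      obtain ⟨θ, hθ⟩ := exists_baseChange (S := R ⧸ Ideal.span {f}) t
      intro i j k hij hjk hj x
      refine ⟨fun hx => ?_, ?_⟩
      swap
      · rintro ⟨w, rfl⟩; exact dL_dL _ i j k w
      haveI := free t j
      haveI := free t k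
      set a := fstL f t j k hjk x with ha
      set b := sndL f t j x with hb
      have h2 : f • a + dL t j k b = 0 := by rw [ha, hb, ← snd_d f t hjk, hx, map_zero]
      have h3 : dL (t.map (algebraMap R (R ⧸ Ideal.span {f}))) j k (θ j (1 ⊗ₜ b)) = 0 := by
        rw [← hθ j k hjk, LinearMap.baseChange_tmul, eq_neg_of_add_eq_zero_right h2, TensorProduct.tmul_neg,
          ← TensorProduct.smul_tmul, show f • (1 : R ⧸ Ideal.span {f}) = 0 from ?_, TensorProduct.zero_tmul,
          neg_zero, map_zero]
        rw [Algebra.smul_def, mul_one]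
        exact Ideal.Quotient.eq_zero_iff_mem.2 (Ideal.mem_span_singleton_self f)
      obtain ⟨w, hw⟩ := (hex i j k hij hjk hj _).1 h3
      obtain ⟨w, rfl⟩ := (θ i).surjective w
      rw [← hθ i j hij] at hw
      obtain ⟨c, rfl⟩ := exists_tmul_eq f _ w
      rw [LinearMap.baseChange_tmul] at hw
      have h4 := (θ j).injective hw
      obtain ⟨v, hv⟩ := exists_smul_of_tmul_eq_zero f _ (b - dL t i j c)
        (by rw [TensorProduct.tmul_sub, h4, sub_self])
      have hb' : b = f • v + dL t i j c := eq_add_of_sub_eq hv.symm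
      have h5 : a + dL t j k v = 0 := smul_injective_of_free f hf _ (by
        rw [smul_add, ← map_smul (dL t j k)]
        calc f • a + dL t j k (f • v) = f • a + dL t j k b := by
              rw [hb', map_add, dL_dL, add_zero]
          _ = 0 := h2)
      refine ⟨inlL f t i j hij v + inrL f t i c, ext_pair f t hjk ?_ ?_⟩
      · rw [fst_d f t hij hjk, map_add, fst_inl, fst_inr, add_zero, ← ha]
        exact (eq_neg_of_add_eq_zero_left h5).symm
      · rw [snd_d f t hij, map_add, map_add, fst_inl, fst_inr, snd_inl, snd_inr, add_zero, zero_add,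
          ← hb, hb']

theorem isKoszulRegularSeq_of_isWeaklyRegular {l : List R} (h : IsWeaklyRegular R l) :
    LCI.IsKoszulRegularSeq R l :=
  (ex_iff l).1 (ex_of_isWeaklyRegular_aux _ l rfl h)

/-- The span of the trivial relations. -/
noncomputable def triv {c : ℕ} (f : Fin c → R) : Submodule R (Fin c → R) :=
  Submodule.span R {v : Fin c → R | ∃ i j : Fin c, v = Pi.single i (f j) - Pi.single j (f i)}

theorem triv_gen {c : ℕ} (f : Fin c → R) (i j : Fin c) :
    (Pi.single i (f j) - Pi.single j (f i) : Fin c → R) ∈ triv f :=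
  Submodule.subset_span ⟨i, j, rfl⟩

theorem map_mem_triv {c : ℕ} {f : Fin c → R} {S : Type u} [CommRing S] (φ : R →+* S) {a : Fin c → R}
    (ha : a ∈ triv f) : φ ∘ a ∈ triv (φ ∘ f) := by
  induction ha using Submodule.span_induction with
  | mem v hv =>
    obtain ⟨i, j, rfl⟩ := hv
    convert triv_gen (φ ∘ f) i j using 1
    funext k
    simp [Pi.single_apply, apply_ite φ]
  | zero => convert zero_mem (triv (φ ∘ f)) using 1; funext k; simp
  | add a b _ _ ha hb => convert add_mem ha hb using 1; funext k; simp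
  | smul r a _ ha => convert Submodule.smul_mem _ (φ r) ha using 1; funext k; simp

/-- Degree `-1` of the Koszul complex. -/
theorem exists_E1 : ∀ l : List R, ∃ E : X l (-1) →ₗ[R] (Fin l.length → R), Function.Surjective E ∧
    (∀ x, e0 l (dL l (-1) 0 x) = ∑ i, E x i * l.get i) ∧
    ∀ y : X l (-2), E (dL l (-2) (-1) y) ∈ triv l.get
  | [] => ⟨0, fun a => ⟨0, funext fun i => i.elim0⟩, fun x => by
      haveI := subsingleton_nil (R := R) (i := -1) (by omega)
      rw [Subsingleton.elim x 0]; simp, fun y => zero_mem _⟩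
  | f :: l => by
    obtain ⟨E, hE, hEd, hEt⟩ := exists_E1 l
    let E' : X (f :: l) (-1) →ₗ[R] (Fin (f :: l).length → R) :=
      LinearMap.pi (Fin.cases ((e0 l).toLinearMap ∘ₗ fstL f l (-1) 0 rfl)
        (fun i => LinearMap.proj i ∘ₗ E ∘ₗ sndL f l (-1)))
    have h0 : ∀ x, E' x 0 = e0 l (fstL f l (-1) 0 rfl x) := fun x => rfl
    have hs : ∀ x i, E' x (Fin.succ i) = E (sndL f l (-1) x) i := fun x i => rfl
    refine ⟨E', fun a => ?_, fun x => ?_, fun y => ?_⟩
    · obtain ⟨b, hb⟩ := hE fun i => a i.succ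
      refine ⟨inlL f l (-1) 0 rfl ((e0 l).symm (a 0)) + inrL f l (-1) b, funext fun i => ?_⟩
      refine Fin.cases ?_ (fun i => ?_) i
      · rw [h0, map_add, fst_inl, fst_inr, add_zero, LinearEquiv.apply_symm_apply]
      · rw [hs, map_add, snd_inl, snd_inr, zero_add, hb]
    · rw [e0_cons, snd_d f l (i := -1) (j := 0) rfl, map_add, map_smul, hEd, smul_eq_mul]
      show _ = ∑ i : Fin (l.length + 1), _
      rw [Fin.sum_univ_succ, mul_comm f]
      exact congrArg₂ (· + ·) (congrArg (· * f) (h0 x).symm)
        (Finset.sum_congr rfl fun i _ => congrArg (· * l.get i) (hs x i).symm)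
    · set p := fstL f l (-2) (-1) rfl y with hp
      set q := sndL f l (-2) y with hq
      -- embed relations of the tail
      let emb : (Fin l.length → R) →ₗ[R] (Fin (f :: l).length → R) :=
        LinearMap.pi (Fin.cases 0 fun i => LinearMap.proj i)
      have hemb : ∀ v ∈ triv l.get, emb v ∈ triv (f :: l).get := by
        intro v hv
        induction hv using Submodule.span_induction with
        | mem v hv =>
          obtain ⟨i, j, rfl⟩ := hv
          convert triv_gen (f :: l).get i.succ j.succ using 1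
          funext k
          refine Fin.cases ?_ (fun k => ?_) k
          · simp [emb, Pi.single_apply, (Fin.succ_ne_zero _).symm]
          · simp [emb, Pi.single_apply]
        | zero => simp
        | add a b _ _ ha hb => rw [map_add]; exact add_mem ha hb
        | smul r a _ ha => rw [map_smul]; exact Submodule.smul_mem _ r ha
      have he : E' (dL (f :: l) (-2) (-1) y) =
          (∑ i : Fin l.length, E p i • (Pi.single (Fin.succ i) f - Pi.single 0 (l.get i) :
            Fin (f :: l).length → R)) + emb (E (dL l (-2) (-1) q)) := by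
        funext k
        refine Fin.cases ?_ (fun k => ?_) k
        · rw [h0, fst_d f l (i := -2) (j := -1) (k := 0) rfl rfl, map_neg, hEd]
          simp [emb, Finset.sum_apply, Pi.single_apply, ← hp, (Fin.succ_ne_zero _).symm]
        · rw [hs, snd_d f l (i := -2) (j := -1) rfl, map_add, map_smul]
          simp [emb, Finset.sum_apply, Pi.single_apply, ← hp, ← hq, mul_comm]
      rw [he]
      exact add_mem (Submodule.sum_mem _ fun i _ => Submodule.smul_mem _ _
        (by exact triv_gen (f :: l).get i.succ 0)) (hemb _ (hEt q))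

theorem isH1Regular_of_isKoszulRegularSeq {l : List R} (h : LCI.IsKoszulRegularSeq R l) :
    CAlgX.IsH1Regular l.get := by
  intro a ha
  obtain ⟨E, hE, hEd, hEt⟩ := exists_E1 l
  obtain ⟨x, rfl⟩ := hE a
  have hx : dL l (-1) 0 x = 0 := (e0 l).map_eq_zero_iff.1 ((hEd x).trans ha)
  obtain ⟨y, rfl⟩ := ((ex_iff l).2 h (-2) (-1) 0 rfl rfl (by omega) x).1 hx
  exact hEt y

variable {S : Type u} [CommRing S] [Algebra R S] [Module.Flat R S]

theorem isH1Regular_of_flat {c : ℕ} {f : Fin c → R} (h : CAlgX.IsH1Regular f) :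
    CAlgX.IsH1Regular (algebraMap R S ∘ f) := by
  intro a ha
  obtain ⟨k, A, y, hy, hA⟩ := Module.Flat.isTrivialRelation_of_sum_smul_eq_zero (R := R) (f := f) (x := a)
    (by simpa [Algebra.smul_def, mul_comm] using ha)
  have : a = ∑ j, y j • (algebraMap R S ∘ fun i => A i j) := funext fun i => by
    simp [hy i, Finset.sum_apply, Algebra.smul_def, mul_comm]
  rw [this]
  exact Submodule.sum_mem _ fun j _ => Submodule.smul_mem _ _
    (map_mem_triv _ (h _ (by simpa [mul_comm] using hA j)))

theorem isQuasiRegular_of_flat {c : ℕ} {f : Fin c → R} (h : CAlgX.IsQuasiRegular f) :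
    CAlgX.IsQuasiRegular (algebraMap R S ∘ f) := by
  classical
  intro n P hP he d
  set J := Ideal.span (Set.range f) with hJ
  have hJS : Ideal.span (Set.range (algebraMap R S ∘ f)) = J.map (algebraMap R S) := by
    rw [hJ, Ideal.map_span, Set.range_comp]
  rw [hJS] at he ⊢
  by_cases hd : d ∈ P.support
  swap
  · rw [MvPolynomial.notMem_support_iff.1 hd]; exact zero_mem _
  have hfg : (J ^ (n + 1)).FG := by
    have : J.FG := ⟨Finset.univ.image f, by rw [hJ, Finset.coe_image, Finset.coe_univ, Set.image_univ]⟩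
    exact this.pow
  obtain ⟨m, g, hg⟩ := Submodule.fg_iff_exists_fin_generating_family.1 hfg
  have hg' : Ideal.span (Set.range g) = J ^ (n + 1) := hg
  rw [← Ideal.map_pow, ← hg', Ideal.map_span, ← Set.range_comp, Ideal.mem_span_range_iff_exists_fun] at he
  obtain ⟨c', hc'⟩ := he
  let r : {e // e ∈ P.support} ⊕ Fin m → R := Sum.elim (fun e => ∏ i, f i ^ e.1 i) g
  let x : {e // e ∈ P.support} ⊕ Fin m → S := Sum.elim (fun e => P.coeff e.1) (fun k => -c' k)
  obtain ⟨k, A, y, hy, hA⟩ := Module.Flat.isTrivialRelation_of_sum_smul_eq_zero (R := R) (f := r) (x := x) (by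
    rw [MvPolynomial.eval_eq'] at hc'
    simp only [r, x, Fintype.sum_sum_type, Sum.elim_inl, Sum.elim_inr, Algebra.smul_def, map_prod, map_pow,
      mul_neg, Finset.sum_neg_distrib]
    rw [← sub_eq_add_neg, sub_eq_zero, Finset.univ_eq_attach, Finset.sum_attach P.support
      (fun e => (∏ i, algebraMap R S (f i) ^ e i) * P.coeff e)]
    simp only [Function.comp_apply] at hc'
    simpa [mul_comm] using hc'.symm)
  rw [show P.coeff d = x (Sum.inl ⟨d, hd⟩) from rfl, hy]
  refine Submodule.sum_mem _ fun j _ => ?_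
  rw [Algebra.smul_def]
  refine Ideal.mul_mem_right _ _ (Ideal.mem_map_of_mem _ ?_)
  let Q : MvPolynomial (Fin c) R :=
    ∑ e : {e // e ∈ P.support}, MvPolynomial.monomial e.1 (A (Sum.inl e) j)
  have hQ : Q.IsHomogeneous n := MvPolynomial.IsHomogeneous.sum _ _ _ fun e _ =>
    MvPolynomial.isHomogeneous_monomial _ (by
      rw [← hP (MvPolynomial.mem_support_iff.1 e.2), Finsupp.weight_apply, Finsupp.degree]
      simp [Finsupp.sum])
  have hev : MvPolynomial.eval f Q ∈ J ^ (n + 1) := by
    have := hA j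
    simp only [r, Fintype.sum_sum_type, Sum.elim_inl, Sum.elim_inr] at this
    rw [show MvPolynomial.eval f Q = ∑ e : {e // e ∈ P.support}, (∏ i, f i ^ e.1 i) * A (Sum.inl e) j from by
      simp [Q, map_sum, MvPolynomial.eval_monomial, Finsupp.prod_fintype, mul_comm],
      eq_neg_of_add_eq_zero_left this, ← hg']
    exact neg_mem (Submodule.sum_mem _ fun k' _ =>
      Ideal.mul_mem_right _ _ (Ideal.subset_span ⟨k', rfl⟩))
  have := h n Q hQ hev d
  rwa [show Q.coeff d = A (Sum.inl ⟨d, hd⟩) j from by
    simp only [Q, MvPolynomial.coeff_sum, MvPolynomial.coeff_monomial]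
    rw [Finset.sum_eq_single ⟨d, hd⟩ (fun e _ he => if_neg fun h' => he (Subtype.ext h'))
      (fun h' => absurd (Finset.mem_univ _) h'), if_pos rfl]] at this

omit [Algebra R S] [Module.Flat R S] in
theorem isKoszulRegularSeq_of_flat [Algebra R S] [Module.Flat R S] {l : List R}
    (h : LCI.IsKoszulRegularSeq R l) : LCI.IsKoszulRegularSeq S (l.map (algebraMap R S)) :=
  (ex_iff _).1 (((ex_iff l).2 h).baseChange)

end Groth.Agent.RegSeq
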