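import Groth.Agent.RegSeq.Imm
import Groth.Agent.QReg.Basic
import Groth.Agent.DepthLib.LocalSequence
import Groth.Agent.Vasconcelos.Global
import Mathlib.RingTheory.Filtration

/-!
Quasi-regular sequences over Noetherian rings are regular, and this spreads out.
-/

set_option autoImplicit false
set_option linter.style.haveILetI false
universe u

open MvPolynomial RingTheory.Sequence

namespace Groth.Agent.RegSeq

variable {R : Type u} [CommRing R]

theorem mem_pow_of_head_mul_mem {e : ℕ} {f : Fin (e + 1) → R} (hf : CAlgX.IsQuasiRegular f) (n : ℕ) :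
    ∀ a, f 0 * a ∈ Ideal.span (Set.range f) ^ (n + 1) → a ∈ Ideal.span (Set.range f) ^ n := by
  intro a ha
  suffices ∀ k ≤ n, a ∈ Ideal.span (Set.range f) ^ k from this n le_rfl
  intro k
  induction k with
  | zero => simp
  | succ k ih =>
    intro hk
    obtain ⟨F, hF, rfl⟩ := AdicLim.exists_isHomogeneous_eval f rfl (ih (Nat.le_of_succ_le hk))
    have h2 := hf (1 + k) (X 0 * F) ((isHomogeneous_X _ _).mul hF) (by
      rw [map_mul, eval_X]
      exact Ideal.pow_le_pow_right (by omega) ha)
    refine QReg.eval_mem_pow_succ (I := Ideal.span (Set.range f)) (fun i => Ideal.subset_span ⟨i, rfl⟩) hF fun d => ?_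
    have h3 := h2 (Finsupp.single 0 1 + d)
    rwa [coeff_X_mul] at h3

theorem quasiRegular_quotient {e : ℕ} {f : Fin (e + 1) → R} (hf : CAlgX.IsQuasiRegular f) :
    CAlgX.IsQuasiRegular fun i : Fin e => Ideal.Quotient.mk (Ideal.span {f 0}) (f i.succ) := by
  classical
  have hmap : Ideal.span (Set.range fun i : Fin e => Ideal.Quotient.mk (Ideal.span {f 0}) (f i.succ)) =
      (Ideal.span (Set.range f)).map (Ideal.Quotient.mk (Ideal.span {f 0})) := by
    rw [Ideal.map_span, ← Set.range_comp]
    refine le_antisymm (Ideal.span_mono ?_) (Ideal.span_le.mpr ?_)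
    · rintro _ ⟨i, rfl⟩
      exact ⟨i.succ, rfl⟩
    · rintro _ ⟨i, rfl⟩
      induction i using Fin.cases with
      | zero => rw [Function.comp_apply, Ideal.Quotient.eq_zero_iff_mem.mpr (Ideal.mem_span_singleton_self _)]; exact zero_mem _
      | succ i => exact Ideal.subset_span ⟨i, rfl⟩
  intro n Q hQ he d
  rw [hmap] at he ⊢
  obtain ⟨P₀, hP₀⟩ := MvPolynomial.map_surjective (Ideal.Quotient.mk (Ideal.span {f 0})) Ideal.Quotient.mk_surjective Q
  obtain ⟨P, hP, hPQ⟩ : ∃ P, P.IsHomogeneous n ∧ MvPolynomial.map (Ideal.Quotient.mk (Ideal.span {f 0})) P = Q := by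
    refine ⟨homogeneousComponent n P₀, homogeneousComponent_isHomogeneous n P₀, MvPolynomial.ext _ _ fun d => ?_⟩
    rw [coeff_map, coeff_homogeneousComponent, ← hP₀, coeff_map]
    split_ifs with hd
    · rfl
    · rw [map_zero, ← coeff_map, hP₀]
      by_contra hne
      refine hd ?_
      rw [Finsupp.degree_eq_weight_one]
      exact hQ (Ne.symm hne)
  have hev : eval (fun i : Fin e => f i.succ) P ∈ Ideal.span (Set.range f) ^ (n + 1) ⊔ Ideal.span {f 0} := by
    rw [← Ideal.mk_ker (I := Ideal.span {f 0}), sup_comm, RingHom.ker_eq_comap_bot, sup_comm,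
      ← Ideal.comap_map_of_surjective _ Ideal.Quotient.mk_surjective, Ideal.mem_comap, Ideal.map_pow]
    rw [← hPQ, eval_map] at he
    convert he using 1
    rw [eval_eq, eval₂_eq, map_sum]
    simp [map_mul, map_prod, map_pow]
  obtain ⟨y, hy, z, hz, hyz⟩ := Submodule.mem_sup.mp hev
  obtain ⟨a, rfl⟩ := Ideal.mem_span_singleton'.mp hz
  rw [← hPQ, coeff_map]
  refine Ideal.mem_map_of_mem _ ?_
  rcases n with _ | j
  · by_cases hd : P.coeff d = 0
    · rw [hd]; exact zero_mem _
    obtain rfl : d = 0 := (Finsupp.degree_eq_zero_iff d).mp (by rw [Finsupp.degree_eq_weight_one]; exact hP hd)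
    rw [(totalDegree_eq_zero_iff_eq_C).mp (Nat.eq_zero_of_le_zero hP.totalDegree_le), eval_C] at hyz
    rw [← hyz]
    exact add_mem (by simpa using hy) (Ideal.mul_mem_left _ _ (Ideal.subset_span ⟨0, rfl⟩))
  · have hg : eval (fun i : Fin e => f i.succ) P ∈ Ideal.span (Set.range f) ^ (j + 1) :=
      QReg.eval_mem_pow (σ := Fin e) (f := fun i : Fin e => f i.succ) (I := Ideal.span (Set.range f)) (fun i => Ideal.subset_span ⟨i.succ, rfl⟩) hP
    have ha : f 0 * a ∈ Ideal.span (Set.range f) ^ (j + 1) := by
      rw [show f 0 * a = eval (fun i : Fin e => f i.succ) P - y by rw [← hyz]; ring]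
      exact sub_mem hg (Ideal.pow_le_pow_right (Nat.le_succ _) hy)
    obtain ⟨F, hF, hFa⟩ := AdicLim.exists_isHomogeneous_eval f rfl (mem_pow_of_head_mul_mem hf j a ha)
    have h2 := hf (j + 1) (rename Fin.succ P - X 0 * F)
      (hP.rename_isHomogeneous.sub (by simpa [add_comm] using (isHomogeneous_X R (0 : Fin (e + 1))).mul hF)) (by
      rw [map_sub, eval_rename, map_mul, eval_X, hFa]
      have : eval (f ∘ Fin.succ) P = eval (fun i : Fin e => f i.succ) P := rfl
      rw [this, ← hyz]
      convert hy using 1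
      ring) (d.mapDomain Fin.succ)
    rwa [coeff_sub, coeff_rename_mapDomain _ (Fin.succ_injective _), coeff_X_mul', if_neg, sub_zero] at h2
    simp [Finsupp.mapDomain_of_notMem_range, Fin.succ_ne_zero]

/-- Quasi-regular in the radical of a Noetherian ring is weakly regular. -/
theorem isWeaklyRegular_of_isQuasiRegular : ∀ (e : ℕ) {R : Type u} [CommRing R] [IsNoetherianRing R]
    (f : Fin e → R), (∀ i, f i ∈ (⊥ : Ideal R).jacobson) → CAlgX.IsQuasiRegular f →
    IsWeaklyRegular R (List.ofFn f) := by
  intro e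
  induction e with
  | zero =>
    intro R _ _ f _ _
    rw [List.ofFn_zero]
    exact IsWeaklyRegular.nil R R
  | succ e ih =>
    intro R _ _ f hj hf
    rw [List.ofFn_succ, isWeaklyRegular_cons_iff]
    refine ⟨IsSMulRegular.of_right_eq_zero_of_smul fun a ha => ?_, ?_⟩
    · have hle : Ideal.span (Set.range f) ≤ (⊥ : Ideal R).jacobson :=
        Ideal.span_le.2 (Set.range_subset_iff.2 hj)
      have h0 := Ideal.iInf_pow_smul_eq_bot_of_le_jacobson (M := R) _ hle
      have : a ∈ (⨅ i : ℕ, Ideal.span (Set.range f) ^ i • ⊤ : Submodule R R) :=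
        (Submodule.mem_iInf _).2 fun n => by
          rw [smul_eq_mul, Ideal.mul_top]
          exact mem_pow_of_head_mul_mem hf n a (by rw [← smul_eq_mul, ha]; exact zero_mem _)
      rwa [h0, Submodule.mem_bot] at this
    · set π := Ideal.Quotient.mk (Ideal.span {f 0})
      let E : QuotSMulTop (f 0) R ≃ₗ[R] R ⧸ Ideal.span {f 0} := Submodule.quotEquivOfEq _ _
        (by rw [← Submodule.ideal_span_singleton_smul, smul_eq_mul, Ideal.mul_top])
      rw [E.isWeaklyRegular_congr, ← isWeaklyRegular_map_algebraMap_iff (R ⧸ Ideal.span {f 0}), List.map_ofFn]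
      refine ih (fun i => π (f i.succ)) (fun i => ?_) (quasiRegular_quotient hf)
      rw [Ideal.mem_jacobson_bot]
      intro y
      obtain ⟨y, rfl⟩ := Ideal.Quotient.mk_surjective y
      simpa [π] using (Ideal.mem_jacobson_bot.1 (hj i.succ) y).map π

/-- The regular-sequence form of `DepthLib.RegOn` for the ring itself. -/
theorem regOn_self_iff (S : Submonoid R) (rs : List R) :
    DepthLib.RegOn S R rs ↔ IsWeaklyRegular (Localization S) (rs.map (algebraMap R (Localization S))) :=
  ((IsLocalizedModule.iso S (Algebra.linearMap R (Localization S))).extendScalarsOfIsLocalization S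
    (Localization S)).isWeaklyRegular_congr _

/-- A sequence quasi-regular near `p` is weakly regular on a basic open around `p`. -/
theorem exists_isWeaklyRegular_away [IsNoetherianRing R] (p : Ideal R) [p.IsPrime] (rs : List R)
    (hp : ∀ r ∈ rs, r ∈ p) (hq : CAlgX.IsQuasiRegular rs.get) :
    ∃ g ∉ p, IsWeaklyRegular (Localization.Away g) (rs.map (algebraMap R (Localization.Away g))) := by
  let L := Localization p.primeCompl
  haveI : IsNoetherianRing L := IsLocalization.isNoetherianRing p.primeCompl L inferInstance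
  haveI : IsLocalization.AtPrime L p := (inferInstance : IsLocalization p.primeCompl L)
  haveI : IsLocalRing L := IsLocalization.AtPrime.isLocalRing L p
  haveI : Module.Flat R L := IsLocalization.flat L p.primeCompl
  have h1 := isWeaklyRegular_of_isQuasiRegular rs.length (algebraMap R L ∘ rs.get) (fun i => ?_)
    (isQuasiRegular_of_flat hq)
  · rw [← List.map_ofFn, List.ofFn_get] at h1
    obtain ⟨g, hg, hT⟩ := Vasconcelos.regOn_spread p rs ((regOn_self_iff _ _).2 h1)
    exact ⟨g, hg, (regOn_self_iff (Submonoid.powers g) rs).1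
      (hT _ ⟨1, by rw [one_mul]; exact Submonoid.mem_powers g⟩)⟩
  · refine IsLocalRing.maximalIdeal_le_jacobson _ ?_
    rw [Function.comp_apply, IsLocalization.AtPrime.to_map_mem_maximal_iff L p]
    exact hp _ (List.get_mem rs i)

end Groth.Agent.RegSeq
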