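import Mathlib

/-!
Weakly regular sequences are of linear type.
-/

set_option autoImplicit false

universe u

namespace Groth.Agent.RegSeq

open MvPolynomial

/-- Successive elementwise regularity. -/
def W {A : Type u} [CommRing A] {n : ℕ} (a : Fin n → A) : Prop :=
  ∀ i x, a i * x ∈ Ideal.span (a '' {j | j < i}) → x ∈ Ideal.span (a '' {j | j < i})

/-- The Koszul relations inside the polynomial ring. -/
noncomputable def koszul {A : Type u} [CommRing A] {n : ℕ} (a : Fin n → A) : Ideal (MvPolynomial (Fin n) A) :=
  Ideal.span {q | ∃ i j : Fin n, q = C (a i) * X j - C (a j) * X i}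

variable {A : Type u} [CommRing A]

theorem w_of_isWeaklyRegular {n : ℕ} (a : Fin n → A) (h : RingTheory.Sequence.IsWeaklyRegular A (List.ofFn a)) :
    W a := by
  intro i x hx
  have h1 := h.regular_mod_prev i.1 (by simp)
  have hI : Ideal.ofList ((List.ofFn a).take i.1) = Ideal.span (a '' {j | j < i}) := by
    show Ideal.span {r | r ∈ (List.ofFn a).take i.1} = _
    congr 1
    ext r
    simp only [List.mem_take_iff_getElem, List.getElem_ofFn, Set.mem_setOf_eq, Set.mem_image]
    constructor
    · rintro ⟨j, hj, rfl⟩
      have := i.2
      exact ⟨⟨j, by simp at hj; omega⟩, (by simp at hj; omega : j < i.1), rfl⟩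
    · rintro ⟨j, hj, rfl⟩
      exact ⟨j.1, by simp; exact hj, rfl⟩
  rw [isSMulRegular_iff_right_eq_zero_of_smul] at h1
  have h2 := h1 (Submodule.Quotient.mk x) (by
    rw [← Submodule.Quotient.mk_smul, Submodule.Quotient.mk_eq_zero, smul_eq_mul (α := Ideal A), Ideal.mul_top, hI]
    simpa using hx)
  rwa [Submodule.Quotient.mk_eq_zero, smul_eq_mul (α := Ideal A), Ideal.mul_top, hI] at h2

theorem homogeneousComponent_mul_of_isHomogeneous {n : ℕ} (k e : ℕ) (c g : MvPolynomial (Fin n) A)
    (hg : g.IsHomogeneous e) :
    homogeneousComponent (k + e) (c * g) = homogeneousComponent k c * g := by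
  conv_lhs => rw [← sum_homogeneousComponent c, Finset.sum_mul, map_sum]
  by_cases hk : k ∈ Finset.range (c.totalDegree + 1)
  · rw [Finset.sum_eq_single_of_mem k hk]
    · rw [homogeneousComponent_of_mem ((homogeneousComponent_isHomogeneous k c).mul hg), if_pos rfl]
    · intro j _ hj
      rw [homogeneousComponent_of_mem ((homogeneousComponent_isHomogeneous j c).mul hg), if_neg (by omega)]
  · rw [homogeneousComponent_eq_zero k c (by simp at hk; omega), zero_mul, Finset.sum_eq_zero]
    intro j hj
    rw [homogeneousComponent_of_mem ((homogeneousComponent_isHomogeneous j c).mul hg), if_neg]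
    intro h
    exact hk ((show j = k by omega) ▸ hj)

theorem koszul_gen_isHomogeneous {n : ℕ} (a : Fin n → A) (i j : Fin n) :
    (C (a i) * X j - C (a j) * X i : MvPolynomial (Fin n) A).IsHomogeneous 1 :=
  (isHomogeneous_C_mul_X _ _).sub (isHomogeneous_C_mul_X _ _)

theorem homogeneousComponent_mem_koszul {n : ℕ} (a : Fin n → A) {l : MvPolynomial (Fin n) A} (hl : l ∈ koszul a)
    (k : ℕ) : homogeneousComponent k l ∈ koszul a := by
  suffices ∀ c, homogeneousComponent k (c * l) ∈ koszul a by simpa using this 1
  induction hl using Submodule.span_induction with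
  | zero => intro c; simp
  | add x y _ _ hx hy => intro c; rw [mul_add, map_add]; exact add_mem (hx c) (hy c)
  | smul r x _ hx => intro c; rw [smul_eq_mul, ← mul_assoc]; exact hx _
  | mem x hx =>
    intro c
    obtain ⟨i, j, rfl⟩ := hx
    rcases k with _ | k
    · have h0 : homogeneousComponent 0 (c * (C (a i) * X j - C (a j) * X i)) = 0 := by
        simp [homogeneousComponent_zero, ← constantCoeff_eq]
      rw [h0]
      exact zero_mem _
    · rw [homogeneousComponent_mul_of_isHomogeneous k 1 c _ (koszul_gen_isHomogeneous a i j)]
      exact Ideal.mul_mem_left _ _ (Submodule.subset_span ⟨i, j, rfl⟩)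

theorem eval_eq_zero_of_mem_koszul {n : ℕ} (a : Fin n → A) {l : MvPolynomial (Fin n) A} (hl : l ∈ koszul a) :
    eval a l = 0 := by
  induction hl using Submodule.span_induction with
  | zero => simp
  | add x y _ _ hx hy => rw [map_add, hx, hy, add_zero]
  | smul r x _ hx => rw [smul_eq_mul, map_mul, hx, mul_zero]
  | mem x hx =>
    obtain ⟨i, j, rfl⟩ := hx
    simp [mul_comm]

theorem aeval_mul_of_isHomogeneous {n k : ℕ} {B : Type*} [CommRing B] [Algebra A B] {Q : MvPolynomial (Fin n) A}
    (hQ : Q.IsHomogeneous k) (c : B) (h : Fin n → B) :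
    aeval (fun i => c * h i) Q = c ^ k * aeval h Q := by
  simp only [aeval_def, eval₂_eq, Finset.mul_sum]
  refine Finset.sum_congr rfl fun d hd => ?_
  have hk : ∑ i ∈ d.support, d i = k := by
    rw [← Finsupp.degree_apply, Finsupp.degree_eq_weight_one]
    exact hQ (mem_support_iff.mp hd)
  simp only [mul_pow, Finset.prod_mul_distrib, Finset.prod_pow_eq_pow_sum, hk]
  ring

/-- A homogeneous relation of a weakly regular sequence is a combination of Koszul relations. -/
theorem mem_koszul {A : Type u} [CommRing A] : ∀ (n : ℕ) (a : Fin n → A), W a → ∀ (d : ℕ) (P : MvPolynomial (Fin n) A),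
    P.IsHomogeneous d → eval a P = 0 → P ∈ koszul a := by
  intro n
  induction n generalizing A with
  | zero =>
    intro a _ d P _ he
    obtain ⟨c, rfl⟩ := C_surjective (Fin 0) P
    rw [eval_C] at he
    rw [he, map_zero]
    exact zero_mem _
  | succ n ihn =>
    intro a hW d
    have hreg : ∀ x, a 0 * x = 0 → x = 0 := fun x hx => by
      have h := hW 0 x
      simp only [Fin.not_lt_zero, Set.setOf_false, Set.image_empty, Ideal.span_empty, Submodule.mem_bot] at h
      exact h hx
    induction d with
    | zero =>
      intro P hP he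
      have hPC : P = C (coeff 0 P) := by
        ext e
        rw [coeff_C]
        split_ifs with h
        · rw [h]
        · exact IsHomogeneous.coeff_eq_zero hP fun hd => h ((Finsupp.degree_eq_zero_iff e).mp hd).symm
      rw [hPC, eval_C] at he
      rw [hPC, he, map_zero]
      exact zero_mem _
    | succ d ihd =>
      intro P hP he
      classical
      let π := Ideal.Quotient.mk (Ideal.span {a 0})
      let P₀ : MvPolynomial (Fin n) A := aeval (Fin.cons 0 (fun i => X i) : Fin (n + 1) → MvPolynomial (Fin n) A) P
      let ι : MvPolynomial (Fin n) A →ₐ[A] MvPolynomial (Fin (n + 1)) A := rename Fin.succ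
      -- divide by `X 0`
      have hdvd : ∀ p : MvPolynomial (Fin (n + 1)) A, X 0 ∣ p - ι (aeval (Fin.cons 0 (fun i => X i)) p) := by
        intro p
        induction p using MvPolynomial.induction_on with
        | C r => simp [ι]
        | add p q hp hq => rw [map_add, map_add, add_sub_add_comm]; exact dvd_add hp hq
        | mul_X p i hp =>
          rw [map_mul, map_mul, aeval_X]
          induction i using Fin.cases with
          | zero => simp
          | succ i =>
            rw [Fin.cons_succ, rename_X, ← sub_mul]
            exact hp.mul_right _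
      obtain ⟨Q₀, hQ₀⟩ := hdvd P
      have hP₀ : P₀.IsHomogeneous (d + 1) := by
        have := hP.aeval (n := 1) (Fin.cons 0 (fun i => X i) : Fin (n + 1) → MvPolynomial (Fin n) A) fun i => by
          induction i using Fin.cases with
          | zero => simpa using isHomogeneous_zero _ _ 1
          | succ i => simpa using isHomogeneous_X A i
        simpa [P₀] using this
      have heq : eval (a ∘ Fin.succ) P₀ + a 0 * eval a Q₀ = 0 := by
        rw [← he]
        conv_rhs => rw [← sub_add_cancel P (ι P₀)]
        rw [show P - ι P₀ = X 0 * Q₀ from hQ₀, map_add, map_mul, eval_X, eval_rename, add_comm]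
      have hbar : map π P₀ ∈ koszul (fun i : Fin n => π (a i.succ)) := by
        refine ihn _ (fun i x hx => ?_) (d + 1) _ (hP₀.map π) ?_
        · obtain ⟨x, rfl⟩ := Ideal.Quotient.mk_surjective x
          have himg : Ideal.span ((fun i : Fin n => π (a i.succ)) '' {j | j < i}) =
              (Ideal.span (a '' {j | j < i.succ})).map π := by
            rw [Ideal.map_span, ← Set.image_comp]
            refine le_antisymm (Ideal.span_mono ?_) (Ideal.span_le.mpr ?_)
            · rintro _ ⟨j, hj, rfl⟩
              exact ⟨j.succ, Fin.succ_lt_succ_iff.mpr hj, rfl⟩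
            · rintro _ ⟨j, hj, rfl⟩
              induction j using Fin.cases with
              | zero =>
                rw [SetLike.mem_coe, Function.comp_apply, Ideal.Quotient.eq_zero_iff_mem.mpr (Ideal.mem_span_singleton_self (a 0))]
                exact zero_mem _
              | succ j => exact Ideal.subset_span ⟨j, Fin.succ_lt_succ_iff.mp hj, rfl⟩
          have hle : Ideal.span {a 0} ≤ Ideal.span (a '' {j | j < i.succ}) :=
            Ideal.span_mono (Set.singleton_subset_iff.mpr ⟨0, Fin.succ_pos i, rfl⟩)
          have hmem : ∀ z, π z ∈ (Ideal.span (a '' {j | j < i.succ})).map π ↔ z ∈ Ideal.span (a '' {j | j < i.succ}) :=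
            fun z => by
              rw [← Ideal.mem_comap, Ideal.comap_map_of_surjective _ Ideal.Quotient.mk_surjective,
                ← RingHom.ker_eq_comap_bot, Ideal.mk_ker, sup_eq_left.mpr hle]
          rw [himg] at hx ⊢
          rw [hmem]
          refine hW i.succ x ((hmem _).mp ?_)
          rw [map_mul]
          exact hx
        · rw [eval_map, ← RingHom.map_zero π, ← heq, map_add, map_mul π (a 0),
            Ideal.Quotient.eq_zero_iff_mem.mpr (Ideal.mem_span_singleton_self (a 0)), zero_mul, add_zero]
          exact (eval₂_comp_left π (RingHom.id A) (a ∘ Fin.succ) P₀).symm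
      have hlift : koszul (fun i : Fin n => π (a i.succ)) ≤ (koszul (a ∘ Fin.succ)).map (map π) := by
        refine Ideal.span_le.mpr ?_
        rintro _ ⟨i, j, rfl⟩
        refine Ideal.mem_map_of_mem (map π) (show (C ((a ∘ Fin.succ) i) * X j - C ((a ∘ Fin.succ) j) * X i) ∈
          koszul (a ∘ Fin.succ) from Submodule.subset_span ⟨i, j, rfl⟩) |> fun h => ?_
        simpa using h
      obtain ⟨l, hl, hlP⟩ := (Ideal.mem_map_iff_of_surjective _ (map_surjective π Ideal.Quotient.mk_surjective)).mp (hlift hbar)
      obtain ⟨R, hR⟩ : C (a 0) ∣ P₀ - l := by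
        rw [C_dvd_iff_dvd_coeff]
        intro e
        rw [← Ideal.Quotient.eq_zero_iff_dvd, coeff_sub, map_sub, ← coeff_map, ← coeff_map, hlP, sub_self]
      have hR0 : constantCoeff R = 0 := by
        refine hreg _ ?_
        have := congrArg constantCoeff hR
        rw [map_sub, map_mul, constantCoeff_C] at this
        rw [← this, constantCoeff_eq, IsHomogeneous.coeff_eq_zero hP₀ (by simp), zero_sub, neg_eq_zero]
        clear this hR hlP hbar
        induction hl using Submodule.span_induction with
        | zero => simp
        | add x y _ _ hx hy => rw [coeff_add, hx, hy, add_zero]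
        | smul r x _ hx => rw [smul_eq_mul, ← constantCoeff_eq, map_mul, constantCoeff_eq, hx, mul_zero]
        | mem x hx => obtain ⟨i, j, rfl⟩ := hx; simp [← constantCoeff_eq]
      have hιl : ι l ∈ koszul a := by
        refine (Ideal.span_le (I := (koszul a).comap ι.toRingHom)).mpr ?_ hl
        rintro _ ⟨i, j, rfl⟩
        exact Submodule.subset_span ⟨i.succ, j.succ, by simp [ι]⟩
      obtain ⟨S, hS⟩ : ∃ S, C (a 0) * ι R - X 0 * S ∈ koszul a := by
        suffices ∀ r : MvPolynomial (Fin n) A, ∃ S, C (a 0) * ι (r - C (constantCoeff r)) - X 0 * S ∈ koszul a by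
          obtain ⟨S, hS⟩ := this R
          exact ⟨S, by simpa [hR0] using hS⟩
        intro r
        induction r using MvPolynomial.induction_on with
        | C c => exact ⟨0, by simp⟩
        | add p q hp hq =>
          obtain ⟨S, hS⟩ := hp
          obtain ⟨T, hT⟩ := hq
          refine ⟨S + T, ?_⟩
          convert add_mem hS hT using 1
          simp only [map_add, map_sub]
          ring
        | mul_X p i _ =>
          refine ⟨C (a i.succ) * ι p, ?_⟩
          convert Ideal.mul_mem_left (koszul a) (ι p) (Submodule.subset_span
            (⟨0, i.succ, rfl⟩ : (C (a 0) * X i.succ - C (a i.succ) * X 0 : MvPolynomial (Fin (n + 1)) A) ∈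
              {q | ∃ i j : Fin (n + 1), q = C (a i) * X j - C (a j) * X i})) using 1
          simp only [map_mul, constantCoeff_X, mul_zero, map_zero, sub_zero, ι, rename_X]
          ring
      have hP' : P - X 0 * (Q₀ + S) ∈ koszul a := by
        convert add_mem hιl hS using 1
        have h1 : ι P₀ - ι l = C (a 0) * ι R := by
          rw [← map_sub, hR, map_mul]
          congr 1
          exact rename_C _ _
        linear_combination hQ₀ + h1
      have hfin := homogeneousComponent_mem_koszul a hP' (d + 1)
      rw [map_sub, homogeneousComponent_of_mem hP, if_pos rfl, mul_comm (X 0),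
        homogeneousComponent_mul_of_isHomogeneous d 1 _ _ (isHomogeneous_X A 0)] at hfin
      set Q := homogeneousComponent d (Q₀ + S)
      have hQ : Q ∈ koszul a := by
        refine ihd Q (homogeneousComponent_isHomogeneous d _) (hreg _ ?_)
        have := eval_eq_zero_of_mem_koszul a hfin
        rw [map_sub, he, zero_sub, neg_eq_zero, map_mul, eval_X, mul_comm] at this
        exact this
      have := add_mem hfin (Ideal.mul_mem_right (X 0) _ hQ)
      rwa [sub_add_cancel] at this

end Groth.Agent.RegSeq
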